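import Mathlib
import Groth.Agent.Lib.H12.Dim
import Groth.Prelude.Def_FEt

/-!
Dimensions of subsets of the punctured spectrum of a local ring.
-/

universe u

open AlgebraicGeometry TopologicalSpace PrimeSpectrum IsLocalRing

set_option backward.isDefEq.respectTransparency false
set_option backward.isDefEq.respectTransparency.types false
set_option linter.style.haveILetI false

namespace Groth.Agent.LefConn13

variable {A : Type u} [CommRing A]

theorem dim_subspace (W : Set (PrimeSpectrum A)) [QuasiSober W] :
    topologicalKrullDim W = Order.krullDim {x : PrimeSpectrum A // x ∈ W} := by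
  rw [Groth.Agent.H12.topologicalKrullDim_eq_krullDim_specializationOrder]
  let e : @OrderIso ↥W {x : PrimeSpectrum A // x ∈ W}ᵒᵈ (specializationOrder ↥W).toLE _ :=
    { toFun := fun a => OrderDual.toDual ⟨a.1, a.2⟩
      invFun := fun a => ⟨(OrderDual.ofDual a).1, (OrderDual.ofDual a).2⟩
      left_inv := fun _ => rfl
      right_inv := fun _ => rfl
      map_rel_iff' := fun {a b} => by
        show b.1 ≤ a.1 ↔ b ⤳ a
        rw [subtype_specializes_iff, PrimeSpectrum.le_iff_specializes] }
  exact (@Order.krullDim_eq_of_orderIso _ _ (specializationOrder ↥W).toPreorder _ e).trans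
    (Order.krullDim_orderDual (α := {x : PrimeSpectrum A // x ∈ W}))

variable [IsLocalRing A]

theorem le_closedPoint (x : PrimeSpectrum A) : x ≤ closedPoint A := le_maximalIdeal x.isPrime.ne_top

theorem closedPoint_mem {C : Set (PrimeSpectrum A)} (hC : IsClosed C) (hne : C.Nonempty) : closedPoint A ∈ C := by
  obtain ⟨x, hx⟩ := hne
  exact ((le_iff_specializes x _).1 (le_closedPoint x)).mem_closed hC hx

theorem isConnected_univ : IsConnected (Set.univ : Set (PrimeSpectrum A)) := by
  refine ⟨Set.univ_nonempty, fun U V hU hV hcov hUn hVn => ?_⟩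
  have key : ∀ O : Set (PrimeSpectrum A), IsOpen O → closedPoint A ∈ O → ∀ x, x ∈ O := fun O hO hc x =>
    ((le_iff_specializes x _).1 (le_closedPoint x)).mem_open hO hc
  obtain ⟨x, -, hx⟩ := hUn
  obtain ⟨y, -, hy⟩ := hVn
  rcases hcov (Set.mem_univ (closedPoint A)) with hc | hc
  · exact ⟨y, trivial, key U hU hc y, hy⟩
  · exact ⟨x, trivial, hx, key V hV hc x⟩

/-- The points of `C` other than the closed point. -/
def punct (C : Set (PrimeSpectrum A)) : Set (PrimeSpectrum A) := C ∩ {closedPoint A}ᶜ

theorem quasiSober_punct {C : Set (PrimeSpectrum A)} (hC : IsClosed C) : QuasiSober ↥(punct C) := by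
  have ho : IsOpen ({closedPoint A}ᶜ : Set (PrimeSpectrum A)) :=
    (IsLocalRing.isClosed_singleton_closedPoint A).isOpen_compl
  haveI : QuasiSober ↥({closedPoint A}ᶜ : Set (PrimeSpectrum A)) := ho.isOpenEmbedding_subtypeVal.quasiSober
  let j : ↥(punct C) → ↥({closedPoint A}ᶜ : Set (PrimeSpectrum A)) := Set.inclusion Set.inter_subset_right
  have hj : Topology.IsClosedEmbedding j := ⟨Topology.IsEmbedding.inclusion _, by
    rw [Set.range_inclusion]
    have : {x : ↥({closedPoint A}ᶜ : Set (PrimeSpectrum A)) | x.1 ∈ punct C} = Subtype.val ⁻¹' C := by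
      ext x; exact ⟨fun h => h.1, fun h => ⟨h, x.2⟩⟩
    rw [this]
    exact hC.preimage continuous_subtype_val⟩
  exact hj.quasiSober

/-- Adding the closed point raises the dimension by one. -/
theorem dim_closed_eq {C : Set (PrimeSpectrum A)} (hC : IsClosed C) (hne : (punct C).Nonempty) :
    topologicalKrullDim C = topologicalKrullDim (punct C) + 1 := by
  classical
  haveI : QuasiSober C := hC.isClosedEmbedding_subtypeVal.quasiSober
  haveI := quasiSober_punct hC
  haveI : Nonempty {x : PrimeSpectrum A // x ∈ punct C} := hne.to_subtype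
  rw [dim_subspace, dim_subspace, ← Order.krullDim_WithTop]
  have hc : closedPoint A ∈ C := closedPoint_mem hC (hne.mono Set.inter_subset_left)
  let F : WithTop {x : PrimeSpectrum A // x ∈ punct C} → {x : PrimeSpectrum A // x ∈ C} := fun x =>
    x.recTopCoe ⟨closedPoint A, hc⟩ fun y => ⟨y.1, y.2.1⟩
  refine (Order.krullDim_eq_of_orderIso (OrderIso.ofRelIsoLT ?_ : WithTop _ ≃o _)).symm
  refine
    { toFun := F
      invFun := fun x => if h : x.1 = closedPoint A then ⊤ else ((⟨x.1, x.2, h⟩ : {y // y ∈ punct C}) : WithTop _)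
      left_inv := fun x => ?_
      right_inv := fun x => ?_
      map_rel_iff' := fun {a b} => ?_ }
  · cases x with
    | top => exact dif_pos rfl
    | coe y => exact dif_neg y.2.2
  · by_cases h : x.1 = closedPoint A
    · simp only [dif_pos h]; exact Subtype.ext h.symm
    · simp only [dif_neg h]; rfl
  · cases a with
    | top =>
      cases b with
      | top => simp [F]
      | coe b =>
        simp only [Equiv.coe_fn_mk, not_top_lt, iff_false]
        exact fun h => h.not_ge (le_closedPoint b.1)
    | coe a =>
      cases b with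
      | top =>
        simp only [Equiv.coe_fn_mk, WithTop.coe_lt_top, iff_true]
        exact lt_of_le_of_ne (show F (a : WithTop _) ≤ F ⊤ from le_closedPoint a.1) fun e => a.2.2 (congrArg Subtype.val e)
      | coe b =>
        simp only [Equiv.coe_fn_mk, WithTop.coe_lt_coe]
        rfl

theorem dim_closed_of_empty {C : Set (PrimeSpectrum A)} (hC : punct C = ∅) : topologicalKrullDim C ≤ 0 := by
  haveI : Subsingleton C := ⟨fun a b => Subtype.ext (by
    have key : ∀ z ∈ C, z = closedPoint A := fun z hz => by
      by_contra hn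
      exact Set.eq_empty_iff_forall_notMem.1 hC z ⟨hz, hn⟩
    rw [key a.1 a.2, key b.1 b.2])⟩
  exact Order.krullDim_nonpos_iff_forall_isMax.2 fun a b _ => le_of_eq (TopologicalSpace.IrreducibleCloseds.ext (by
    have h : ∀ Z : TopologicalSpace.IrreducibleCloseds C, (Z : Set C) = Set.univ := fun Z =>
      Set.eq_univ_of_forall fun x => by obtain ⟨y, hy⟩ := Z.2.nonempty; rwa [Subsingleton.elim x y]
    rw [h a, h b]))

end Groth.Agent.LefConn13
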