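import Groth.Agent.Lib.LefConn13.Dim
import Groth.Agent.Lib.HLV27.Connect4
import Groth.Prelude.Def_LefX

/-!
Grothendieck's connectedness theorem for the punctured spectrum of a complete local ring.
-/

universe u

open AlgebraicGeometry TopologicalSpace PrimeSpectrum IsLocalRing Topology

set_option backward.isDefEq.respectTransparency false
set_option backward.isDefEq.respectTransparency.types false
set_option linter.style.haveILetI false

namespace Groth.Agent.LefConn13

theorem le_of_add_one_le {a : WithBot ℕ∞} {n : ℕ} (h : ((n + 1 : ℕ) : WithBot ℕ∞) ≤ a + 1) :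
    (n : WithBot ℕ∞) ≤ a := by
  induction a with
  | bot => simp at h
  | coe c =>
    induction c with
    | top => exact le_top.trans' le_top
    | coe c =>
      have : n + 1 ≤ c + 1 := by exact_mod_cast h
      exact_mod_cast (show n ≤ c by omega)

theorem add_one_le_of_lt {a : WithBot ℕ∞} {n : ℕ} (h : a < (n : WithBot ℕ∞)) : a + 1 ≤ (n : WithBot ℕ∞) := by
  induction a with
  | bot => simp
  | coe c =>
    induction c with
    | top => exact absurd h not_top_lt
    | coe c =>
      have : c < n := by exact_mod_cast h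
      exact_mod_cast (show c + 1 ≤ n by omega)

variable (A : Type u) [CommRing A] [IsLocalRing A]

/-- The inclusion of the punctured spectrum in the prime spectrum. -/
def incl : ↥(FEt.puncturedSpec A) → PrimeSpectrum A := Subtype.val

theorem isEmbedding_incl : IsEmbedding (incl A) := IsEmbedding.subtypeVal

theorem range_incl : Set.range (incl A) = ({closedPoint A}ᶜ : Set (PrimeSpectrum A)) := Subtype.range_val

theorem dim_image (Z : Set ↥(FEt.puncturedSpec A)) :
    topologicalKrullDim Z = topologicalKrullDim (incl A '' Z) :=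
  IsHomeomorph.topologicalKrullDim_eq _ ((isEmbedding_incl A).homeomorphImage Z).isHomeomorph

theorem image_preimage (C : Set (PrimeSpectrum A)) : incl A '' (incl A ⁻¹' C) = punct C := by
  rw [Set.image_preimage_eq_inter_range, range_incl]; rfl

theorem isConnected_preimage_iff {W : Set (PrimeSpectrum A)} (hW : closedPoint A ∉ W) :
    IsConnected (incl A ⁻¹' W) ↔ IsConnected W := by
  have h : incl A '' (incl A ⁻¹' W) = W := by
    rw [Set.image_preimage_eq_inter_range, range_incl]
    exact Set.inter_eq_left.2 fun x hx e => hW (by rw [Set.mem_singleton_iff] at e; exact e ▸ hx)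
  constructor
  · intro hc
    rw [← h]
    exact hc.image _ (isEmbedding_incl A).continuous.continuousOn
  · intro hc
    rw [← h] at hc
    exact ⟨Set.image_nonempty.1 hc.1, (isEmbedding_incl A).isInducing.isPreconnected_image.1 hc.2⟩

theorem closed_image_union {Z : Set ↥(FEt.puncturedSpec A)} (hZ : IsClosed Z) :
    IsClosed (incl A '' Z ∪ {closedPoint A}) := by
  obtain ⟨C, hC, rfl⟩ := (isEmbedding_incl A).isInducing.isClosed_iff.1 hZ
  rw [image_preimage]
  have e : punct C ∪ {closedPoint A} = C ∪ {closedPoint A} := by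
    ext x
    by_cases hx : x = closedPoint A <;> simp [punct, hx]
  rw [e]
  exact hC.union (IsLocalRing.isClosed_singleton_closedPoint A)

/-- The components of the punctured spectrum. -/
theorem mem_components {P : PrimeSpectrum A} (hP : P.asIdeal ∈ minimalPrimes A) (hne : P ≠ closedPoint A) :
    incl A ⁻¹' zeroLocus (P.asIdeal : Set A) ∈ irreducibleComponents ↥(FEt.puncturedSpec A) := by
  let η : ↥(FEt.puncturedSpec A) := ⟨P, hne⟩
  have hcl : incl A ⁻¹' zeroLocus (P.asIdeal : Set A) = closure {η} := by
    rw [(isEmbedding_incl A).isInducing.closure_eq_preimage_closure_image, Set.image_singleton]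
    show incl A ⁻¹' zeroLocus (P.asIdeal : Set A) = incl A ⁻¹' closure {P}
    rw [PrimeSpectrum.closure_singleton]
  refine ⟨hcl ▸ isIrreducible_singleton.closure, fun W hW hsub => ?_⟩
  haveI : QuasiSober ↥(FEt.puncturedSpec A) := inferInstanceAs (QuasiSober (FEt.puncturedSpec A).toScheme)
  have hξ := hW.isGenericPoint_genericPoint_closure
  have h1 : hW.genericPoint ⤳ η := hξ.specializes (subset_closure (hsub (by rw [hcl]; exact subset_closure rfl)))
  have h2 : incl A hW.genericPoint ≤ P :=
    (le_iff_specializes _ _).2 (h1.map (isEmbedding_incl A).continuous)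
  have h3 : incl A hW.genericPoint = P :=
    le_antisymm h2 (hP.2 ⟨(incl A hW.genericPoint).isPrime, bot_le⟩ h2)
  have h4 : hW.genericPoint = η := (isEmbedding_incl A).injective h3
  intro z hz
  rw [hcl, ← h4, hξ.def]
  exact subset_closure hz

theorem exists_of_component {Z : Set ↥(FEt.puncturedSpec A)}
    (hZ : Z ∈ irreducibleComponents ↥(FEt.puncturedSpec A)) :
    ∃ P : PrimeSpectrum A, P.asIdeal ∈ minimalPrimes A ∧ P ≠ closedPoint A ∧
      Z = incl A ⁻¹' zeroLocus (P.asIdeal : Set A) := by
  obtain ⟨x, hx⟩ := hZ.1.nonempty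
  haveI : QuasiSober ↥(FEt.puncturedSpec A) := inferInstanceAs (QuasiSober (FEt.puncturedSpec A).toScheme)
  have hξ := hZ.1.isGenericPoint_genericPoint_closure
  rw [(isClosed_of_mem_irreducibleComponents Z hZ).closure_eq] at hξ
  let η := hZ.1.genericPoint
  obtain ⟨Q, hQ, hle⟩ := Ideal.exists_minimalPrimes_le (show (⊥ : Ideal A) ≤ (incl A η).asIdeal from bot_le)
  let P : PrimeSpectrum A := ⟨Q, hQ.1.1⟩
  have hPle : P ≤ incl A η := hle
  have hne : P ≠ closedPoint A := fun e => η.2 (le_antisymm (le_closedPoint _) (e ▸ hPle))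
  refine ⟨P, hQ, hne, ?_⟩
  have h1 := mem_components A hQ hne
  refine Set.Subset.antisymm ?_ ?_
  · rw [← hξ.def]
    refine closure_minimal (Set.singleton_subset_iff.2 ?_) (isClosed_of_mem_irreducibleComponents _ h1)
    exact hPle
  · refine hZ.2 h1.1 ?_
    rw [← hξ.def]
    exact closure_minimal (Set.singleton_subset_iff.2 hPle) (isClosed_of_mem_irreducibleComponents _ h1)

theorem main [IsNoetherianRing A] [IsAdicComplete (maximalIdeal A) A] (k : ℕ)
    (ha : ∀ Z ∈ irreducibleComponents ↥(FEt.puncturedSpec A), ((k + 1 : ℕ) : WithBot ℕ∞) ≤ topologicalKrullDim ↥Z)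
    (hk : 1 ≤ k) (hb : LefX.ConnectedInDim ↥(FEt.puncturedSpec A) k) (m : ℕ) (hm : m ≤ k) (f : Fin m → A)
    (hf : ∀ i, f i ∈ maximalIdeal A) [IsLocalRing (A ⧸ Ideal.span (Set.range f))] :
    (∀ Z ∈ irreducibleComponents ↥(FEt.puncturedSpec (A ⧸ Ideal.span (Set.range f))),
      ((k - m + 1 : ℕ) : WithBot ℕ∞) ≤ topologicalKrullDim ↥Z) ∧
      LefX.ConnectedInDim ↥(FEt.puncturedSpec (A ⧸ Ideal.span (Set.range f))) (k - m) := by
  classical
  -- the punctured spectrum is nonempty
  have hne : Nonempty ↥(FEt.puncturedSpec A) := by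
    have h := (hb ∅ isClosed_empty (by
      haveI : IsEmpty (∅ : Set ↥(FEt.puncturedSpec A)) := inferInstance
      haveI : IsEmpty (IrreducibleCloseds (∅ : Set ↥(FEt.puncturedSpec A))) :=
        ⟨fun Z => IsEmpty.false Z.2.nonempty.some⟩
      rw [topologicalKrullDim, Order.krullDim_eq_bot]
      exact WithBot.bot_lt_coe _)).nonempty
    exact ⟨h.some⟩
  -- (b) for the spectrum of `A`
  have hc : ((k + 1 : ℕ) : WithBot ℕ∞) ≤ LocCoh.connDim (PrimeSpectrum A) := by
    refine le_iInf₂ fun C ⟨hC, hnc⟩ => ?_
    have hCne : C.Nonempty := by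
      by_contra he
      rw [Set.not_nonempty_iff_eq_empty] at he
      apply hnc
      rw [he, Set.compl_empty]
      exact isConnected_univ
    have hmC : closedPoint A ∈ C := closedPoint_mem hC hCne
    have hnc' : ¬ IsConnected (incl A ⁻¹' C)ᶜ := fun h => hnc ((isConnected_preimage_iff A (W := Cᶜ) (fun h' => h' hmC)).1 (by
      rwa [← Set.preimage_compl] at h))
    have hge : (k : WithBot ℕ∞) ≤ topologicalKrullDim (incl A ⁻¹' C) :=
      not_lt.1 fun hlt => hnc' (hb _ (hC.preimage (isEmbedding_incl A).continuous) hlt)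
    rw [dim_image, image_preimage] at hge
    have hpne : (punct C).Nonempty := by
      by_contra he
      haveI : IsEmpty (punct C) := by
        rw [Set.not_nonempty_iff_eq_empty] at he; rw [he]; infer_instance
      haveI : IsEmpty (IrreducibleCloseds (punct C)) := ⟨fun Z => IsEmpty.false Z.2.nonempty.some⟩
      rw [topologicalKrullDim, Order.krullDim_eq_bot] at hge
      exact absurd hge (by simp)
    rw [dim_closed_eq hC hpne, Nat.cast_add, Nat.cast_one]
    gcongr
  -- (a) for the spectrum of `A`
  have hcomp : irreducibleComponents (PrimeSpectrum A) =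
      (fun P : Ideal A => zeroLocus (P : Set A)) '' minimalPrimes A := by
    rw [← zeroLocus_minimalPrimes]; rfl
  have hminne : ∀ P : PrimeSpectrum A, P.asIdeal ∈ minimalPrimes A → P ≠ closedPoint A := fun P hP e => by
    obtain ⟨x⟩ := hne
    refine x.2 (le_antisymm (le_closedPoint _) ?_)
    have : (closedPoint A).asIdeal ≤ (incl A x).asIdeal := by
      rw [← e]
      exact hP.2 ⟨(incl A x).isPrime, bot_le⟩ (by rw [e]; exact le_closedPoint (incl A x))
    exact this
  have hs : ((k + 2 : ℕ) : WithBot ℕ∞) ≤ LocCoh.subdim (PrimeSpectrum A) := by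
    refine le_iInf₂ fun K hK => ?_
    rw [hcomp] at hK
    obtain ⟨P, hP, rfl⟩ := hK
    let P' : PrimeSpectrum A := ⟨P, hP.1.1⟩
    have hPne := hminne P' hP
    have h1 := ha _ (mem_components A (P := P') hP hPne)
    rw [dim_image, image_preimage] at h1
    rw [dim_closed_eq (isClosed_zeroLocus _) ⟨P', le_refl P, hPne⟩,
      show ((k + 2 : ℕ) : WithBot ℕ∞) = ((k + 1 : ℕ) : WithBot ℕ∞) + 1 by push_cast; ring]
    gcongr
  -- the connectedness theorem
  set I := Ideal.span (Set.range f) with hI
  let B := A ⧸ I
  let s : Finset A := Finset.univ.image f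
  have hsI : Ideal.span (s : Set A) = I := by simp [s, hI]
  have hsm : s.card ≤ m := Finset.card_image_le.trans (by simp)
  have hIle : I ≤ maximalIdeal A := Ideal.span_le.2 (by rintro _ ⟨i, rfl⟩; exact hf i)
  have hItop : I ≠ ⊤ := ne_top_of_le_ne_top (maximalIdeal.isMaximal A).ne_top hIle
  have key := HLV27.min_le_connDim_add I hItop s (by rw [hsI])
  have hmin : ((k + 2 : ℕ) : WithBot ℕ∞) ≤ LocCoh.connDim (PrimeSpectrum B) + (m : WithBot ℕ∞) + 1 := by
    refine le_trans (le_min ?_ hs) (key.trans (by gcongr))
    rw [show ((k + 2 : ℕ) : WithBot ℕ∞) = ((k + 1 : ℕ) : WithBot ℕ∞) + 1 by push_cast; ring]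
    gcongr
  have hcB : ((k - m + 1 : ℕ) : WithBot ℕ∞) ≤ LocCoh.connDim (PrimeSpectrum B) := by
    generalize LocCoh.connDim (PrimeSpectrum B) = c at hmin
    induction c with
    | bot => simp at hmin
    | coe c =>
      induction c using ENat.recTopCoe with
      | top => exact le_top.trans' le_top
      | coe c =>
        have : k + 2 ≤ c + m + 1 := ENat.coe_le_coe.1 (WithBot.coe_le_coe.1 hmin)
        exact WithBot.coe_le_coe.2 (ENat.coe_le_coe.2 (show k - m + 1 ≤ c by omega))
  haveI : IsNoetherianRing B := inferInstance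
  obtain ⟨d, hd⟩ := HLV27.exists_dim_nat hIle
  have hfin : topologicalKrullDim (PrimeSpectrum B) < ⊤ := by
    rw [topologicalKrullDim_eq_ringKrullDim, hd]
    exact WithBot.coe_lt_coe.2 (ENat.natCast_lt_top d)
  obtain ⟨hle, hiff⟩ := LocCohLib.connDim_le_subdim (T := PrimeSpectrum B) hfin
  have hsB : ((k - m + 2 : ℕ) : WithBot ℕ∞) ≤ LocCoh.subdim (PrimeSpectrum B) := by
    rcases hle.eq_or_lt with heq | hlt
    · haveI := hiff.1 heq
      have hc1 : irreducibleComponents (PrimeSpectrum B) = {Set.univ} := irreducibleComponents_eq_singleton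
      refine le_iInf₂ fun K hK => ?_
      rw [hc1, Set.mem_singleton_iff] at hK
      subst hK
      rw [LocCohLib.dim_univ, topologicalKrullDim_eq_ringKrullDim, hd]
      obtain ⟨Q, hQ⟩ := Ideal.nonempty_minimalPrimes (I := (⊥ : Ideal A)) bot_ne_top
      have h1 : ((k + 2 : ℕ) : WithBot ℕ∞) ≤ ringKrullDim A := hs.trans
        ((HLV27.subdim_le_of_minimalPrime hQ).trans (ringKrullDim_quotient_le Q))
      have h2 := ringKrullDim_le_ringKrullDim_quotient_add_card s (fun x hx => by
        rw [IsLocalRing.ringJacobson_eq_maximalIdeal]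
        obtain ⟨i, -, rfl⟩ := Finset.mem_image.1 hx
        exact hf i)
      rw [hsI, hd] at h2
      have h3 : k + 2 ≤ d + s.card := by exact_mod_cast h1.trans h2
      exact_mod_cast (show k - m + 2 ≤ d by omega)
    · have := lt_of_le_of_lt hcB hlt
      generalize LocCoh.subdim (PrimeSpectrum B) = c at this
      induction c with
      | bot => simp at this
      | coe c =>
        induction c using ENat.recTopCoe with
        | top => exact le_top.trans' le_top
        | coe c =>
          have : k - m + 1 < c := ENat.coe_lt_coe.1 (WithBot.coe_lt_coe.1 this)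
          exact WithBot.coe_le_coe.2 (ENat.coe_le_coe.2 (show k - m + 2 ≤ c by omega))
  constructor
  · intro Z hZ
    obtain ⟨P, hP, hPne, rfl⟩ := exists_of_component B hZ
    rw [dim_image, image_preimage]
    have h1 := hsB.trans (iInf₂_le (zeroLocus (P.asIdeal : Set B)) (by
      rw [show irreducibleComponents (PrimeSpectrum B) = (fun P : Ideal B => zeroLocus (P : Set B)) '' minimalPrimes B
        by rw [← zeroLocus_minimalPrimes]; rfl]
      exact ⟨_, hP, rfl⟩))
    rw [dim_closed_eq (isClosed_zeroLocus _) ⟨P, le_refl P.asIdeal, hPne⟩] at h1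
    exact le_of_add_one_le h1
  · intro Z hZ hlt
    set C := incl B '' Z ∪ {closedPoint B} with hC
    have hCcl : IsClosed C := closed_image_union B hZ
    have hmC : closedPoint B ∈ C := Or.inr rfl
    have e : incl B ⁻¹' Cᶜ = Zᶜ := by
      ext z
      simp only [hC, Set.mem_preimage, Set.mem_compl_iff, Set.mem_union, Set.mem_singleton_iff,
        (isEmbedding_incl B).injective.mem_set_image, or_iff_left (show incl B z ≠ closedPoint B from z.2)]
    rw [← e, isConnected_preimage_iff B (W := Cᶜ) (fun h => h hmC)]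
    by_contra hn
    have h1 := hcB.trans (LocCohLib.connDim_le hCcl hn)
    by_cases hp : (punct C).Nonempty
    · rw [dim_closed_eq hCcl hp] at h1
      have hZd : topologicalKrullDim (punct C) = topologicalKrullDim Z := by
        rw [dim_image B Z]
        have : punct C = incl B '' Z := by
          ext x
          constructor
          · rintro ⟨h | h, hx⟩
            · exact h
            · exact absurd h hx
          · rintro ⟨z, hz, rfl⟩
            exact ⟨Or.inl ⟨z, hz, rfl⟩, z.2⟩
        rw [this]
      rw [hZd] at h1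
      exact absurd hlt (not_lt.2 (le_of_add_one_le h1))
    · have h2 := h1.trans (dim_closed_of_empty (Set.not_nonempty_iff_eq_empty.1 hp))
      have : k - m + 1 ≤ 0 := by exact_mod_cast h2
      omega

end Groth.Agent.LefConn13
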